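import Mathlib
import Cfsg.Agent.KFacts.J2.Facts
import Cfsg.Agent.J2Type.FiveFus
import Cfsg.Agent.J2Type.ThreeF
import Cfsg.Agent.J2Sylow.SporSylow
import Cfsg.Agent.FastGrp
import Cfsg.Agent.Prune
set_option linter.all false
prune_inst 0x7f00000000000000000000000000000000000000000000000000000000000000000000000000000000000000000000000000000000000000000000000000000000000000000000000000000000000000003fffffffffffffffffffffffffffbeffbdffffffff
open scoped Cfsg.Agent.FastGrp

/-!
# Subgroups of odd order prime to 7 of `J2` (helper847)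

`j2_odd` : they have order at most 77 (in fact 75).
-/

set_option autoImplicit false

namespace Cfsg.Agent.H847.JTwoOdd

open Subgroup Cfsg

theorem card_of {A : Type*} [Group A] (h : Spor.IsoJ2 A) : Nat.card A = 604800 := by
  obtain ⟨e⟩ := h
  rw [Nat.card_congr e.toEquiv, Cfsg.Agent.J2Sylow.SporSylow.card_J2]

theorem div675 : ∀ n : ℕ, n ∣ 675 → 77 < n → n = 135 ∨ n = 225 ∨ n = 675 := by
  intro n hn h
  have h1 : n ≤ 675 := Nat.le_of_dvd (by norm_num) hn
  obtain ⟨k, hk⟩ := hn
  have hk9 : k < 9 := by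
    by_contra h2
    push Not at h2
    have : 78 * 9 ≤ n * k := Nat.mul_le_mul h h2
    omega
  interval_cases k <;> omega

/-- the normal Sylow 5-subgroup of a group of order dividing `675` -/
theorem normal_five {H : Type*} [Group H] [Finite H] (hd : Nat.card H ∣ 675) [hp : Fact (Nat.Prime 5)]
    (Q : Sylow 5 H) : (Q : Subgroup H).Normal := by
  have h1 : Nat.card (Sylow 5 H) ∣ (Q : Subgroup H).index := Q.card_dvd_index
  have h2 : ¬ 5 ∣ (Q : Subgroup H).index := Q.not_dvd_index
  have h3 : (Q : Subgroup H).index ∣ 27 := by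
    have h4 : (Q : Subgroup H).index ∣ 25 * 27 := (Q : Subgroup H).index_dvd_card.trans hd
    refine Nat.Coprime.dvd_of_dvd_mul_left ?_ h4
    have h5 : Nat.Coprime (Q : Subgroup H).index 5 := ((Nat.Prime.coprime_iff_not_dvd Nat.prime_five).2 h2).symm
    exact h5.pow_right 2
  have h4 : Nat.card (Sylow 5 H) ∣ 27 := h1.trans h3
  have h5 : Nat.card (Sylow 5 H) ≡ 1 [MOD 5] := card_sylow_modEq_one 5 H
  have h6 : Nat.card (Sylow 5 H) = 1 := by
    have h7 : Nat.card (Sylow 5 H) ∣ 3 ^ 3 := h4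
    obtain ⟨k, hk, hk'⟩ := (Nat.dvd_prime_pow Nat.prime_three).1 h7
    rw [hk'] at h5
    rw [hk']
    interval_cases k <;> first | rfl | (exfalso; revert h5; decide)
  have h7 : Subsingleton (Sylow 5 H) := (Nat.card_eq_one_iff_unique.1 h6).1
  exact Q.normal_of_subsingleton

/-- **Subgroups of odd order prime to 7 of `J2`.** -/
theorem j2_odd {A : Type*} [Group A] [Finite A] (h : Spor.IsoJ2 A) (H : Subgroup A) (ho : Odd (Nat.card ↥H))
    (h7 : ¬ 7 ∣ Nat.card ↥H) : Nat.card ↥H ≤ 77 := by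
  by_contra hcon
  push Not at hcon
  have hp5 : Fact (Nat.Prime 5) := ⟨Nat.prime_five⟩
  have hp3 : Fact (Nat.Prime 3) := ⟨Nat.prime_three⟩
  have hA := card_of h
  have hd : Nat.card ↥H ∣ 675 := by
    have h1 : Nat.card ↥H ∣ (2 ^ 7 * 7) * 675 := by
      have h2 := H.card_subgroup_dvd_card
      rw [hA] at h2
      exact h2
    refine Nat.Coprime.dvd_of_dvd_mul_left ?_ h1
    refine Nat.Coprime.mul_right (Nat.Coprime.pow_right 7 ?_) ?_
    · exact Nat.coprime_comm.1 ((Nat.Prime.coprime_iff_not_dvd Nat.prime_two).2 (by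
        intro h2
        exact (Nat.not_even_iff_odd.2 ho) (even_iff_two_dvd.2 h2)))
    · exact Nat.coprime_comm.1 ((Nat.Prime.coprime_iff_not_dvd (by norm_num)).2 h7)
  obtain ⟨t, u, Q₀, v, ρ, D⟩ := KFacts.J2.Facts.exists_dat_of h
  have F := D.F
  obtain ⟨Q⟩ : Nonempty (Sylow 5 ↥H) := inferInstance
  have hQn := normal_five hd Q
  set Q' : Subgroup A := (Q : Subgroup ↥H).map H.subtype with hQ'
  have hQ'p : IsPGroup 5 ↥Q' := Q.isPGroup'.map _
  have hQ'c : Nat.card ↥Q' = Nat.card ↥(Q : Subgroup ↥H) := card_map_of_injective H.subtype_injective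
  have hnorm : ∀ g ∈ H, ∀ q ∈ Q', g * q * g⁻¹ ∈ Q' := by
    rintro g hg _ ⟨q, hq, rfl⟩
    exact ⟨_, hQn.conj_mem q hq ⟨g, hg⟩, rfl⟩
  have hle : H ≤ normalizer (Q' : Set A) := by
    intro g hg
    rw [mem_normalizer_iff]
    intro q
    refine ⟨hnorm g hg q, fun hq => ?_⟩
    have h1 := hnorm g⁻¹ (H.inv_mem hg) _ hq
    have e : g⁻¹ * (g * q * g⁻¹) * g⁻¹⁻¹ = q := by group
    rwa [e] at h1
  by_cases h25 : 5 ^ 2 ∣ Nat.card ↥H
  · -- `Q'` is a Sylow 5-subgroup
    have h1 : 5 ^ 2 ∣ Nat.card ↥Q' := by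
      rw [hQ'c]
      exact Q.pow_dvd_card_of_pow_dvd_card h25
    have h2 : ¬ 5 ∣ Q'.index := by
      intro h3
      have h4 : 5 ^ 2 * 5 ∣ Nat.card A := by
        rw [← Q'.card_mul_index]
        exact mul_dvd_mul h1 h3
      rw [hA] at h4
      norm_num at h4
    obtain ⟨-, -, h300, -⟩ := J2Type.FiveFus.sylow_five F (hQ'p.toSylow h2)
    rw [hQ'p.toSylow_coe h2] at h300
    have h3 := card_dvd_of_le hle
    rw [h300] at h3
    rcases div675 _ hd hcon with h4 | h4 | h4 <;> rw [h4] at h3 <;> revert h3 <;> norm_num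
  · have h135 : Nat.card ↥H = 135 := by
      rcases div675 _ hd hcon with h4 | h4 | h4
      · exact h4
      · rw [h4] at h25; norm_num at h25
      · rw [h4] at h25; norm_num at h25
    obtain ⟨a, b, ha, hb, hca, hcb, hcl, -⟩ := J2Type.ThreeF.main F
    -- a conjugate of `b` in `H`
    obtain ⟨P⟩ : Nonempty (Sylow 3 ↥H) := inferInstance
    have hP3 : 3 ^ 3 ∣ Nat.card ↥(P : Subgroup ↥H) := P.pow_dvd_card_of_pow_dvd_card (by rw [h135]; norm_num)
    set P' : Subgroup A := (P : Subgroup ↥H).map H.subtype with hP'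
    have hP'p : IsPGroup 3 ↥P' := P.isPGroup'.map _
    have hP'c : 3 ^ 3 ∣ Nat.card ↥P' := by rwa [hP', card_map_of_injective H.subtype_injective]
    have h2 : ¬ 3 ∣ P'.index := by
      intro h3
      have h4 : 3 ^ 3 * 3 ∣ Nat.card A := by
        rw [← P'.card_mul_index]
        exact mul_dvd_mul hP'c h3
      rw [hA] at h4
      norm_num at h4
    obtain ⟨g, hg⟩ := J2Type.SylowFive.exists_conj_mem_sylow (hP'p.toSylow h2) (y := b) (n := 1)
      (by rw [hb, pow_one])
    have hg' : g * b * g⁻¹ ∈ P' := by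
      rw [← hP'p.toSylow_coe h2]
      exact hg
    have hgH : g * b * g⁻¹ ∈ H := map_subtype_le _ hg'
    have hgo : orderOf (g * b * g⁻¹) = 3 := by rw [← MulAut.conj_apply, MulEquiv.orderOf_eq, hb]
    have h3 := J2Type.ThreeA.card_centralizer_modEq Q' hgo (hnorm _ hgH)
    have h5Q : Nat.card ↥Q' = 5 := by
      have h6 : 5 ^ 1 ∣ Nat.card ↥(Q : Subgroup ↥H) := Q.pow_dvd_card_of_pow_dvd_card (by rw [h135]; norm_num)
      obtain ⟨k, hk⟩ := IsPGroup.iff_card.1 Q.isPGroup'
      have h7 := (Q : Subgroup ↥H).card_subgroup_dvd_card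
      rw [hQ'c]
      rw [hk] at h6 h7 ⊢
      rw [h135] at h7
      have hk1 : 1 ≤ k := (Nat.pow_dvd_pow_iff_le_right (by norm_num : 1 < 5)).1 h6
      have hk2 : k < 2 := by
        by_contra hk2
        push Not at hk2
        have h8 := (pow_dvd_pow 5 hk2).trans h7
        norm_num at h8
      have : k = 1 := by omega
      rw [this, pow_one]
    have h4 : Nat.card ↥(Q' ⊓ centralizer ({g * b * g⁻¹} : Set A) : Subgroup A) = 5 := by
      have h5 : Nat.card ↥(Q' ⊓ centralizer ({g * b * g⁻¹} : Set A) : Subgroup A) ∣ 5 := by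
        rw [← h5Q]
        exact card_dvd_of_le inf_le_left
      rcases (Nat.dvd_prime Nat.prime_five).1 h5 with h6 | h6
      · rw [h6, h5Q] at h3
        exfalso; revert h3; decide
      · exact h6
    have h5 : 5 ∣ Nat.card ↥(centralizer ({g * b * g⁻¹} : Set A)) := by
      rw [← h4]
      exact card_dvd_of_le inf_le_right
    have h6 : Nat.card ↥(centralizer ({g * b * g⁻¹} : Set A)) = Nat.card ↥(centralizer ({b} : Set A)) := by
      have h1 : (centralizer ({b} : Set A)).map (MulAut.conj g).toMonoidHom = centralizer ({g * b * g⁻¹} : Set A) := by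
        ext w
        rw [mem_centralizer_singleton_iff]
        constructor
        · rintro ⟨c, hc, rfl⟩
          have hc' := mem_centralizer_singleton_iff.1 hc
          change g * c * g⁻¹ * (g * b * g⁻¹) = g * b * g⁻¹ * (g * c * g⁻¹)
          calc g * c * g⁻¹ * (g * b * g⁻¹) = g * (c * b) * g⁻¹ := by group
            _ = g * (b * c) * g⁻¹ := by rw [hc']
            _ = _ := by group
        · intro hu
          refine ⟨g⁻¹ * w * g, ?_, by change g * (g⁻¹ * w * g) * g⁻¹ = w; group⟩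
          rw [SetLike.mem_coe, mem_centralizer_singleton_iff]
          calc g⁻¹ * w * g * b = g⁻¹ * (w * (g * b * g⁻¹)) * g := by group
            _ = g⁻¹ * (g * b * g⁻¹ * w) * g := by rw [hu]
            _ = _ := by group
      rw [← h1, card_map_of_injective (MulAut.conj g).injective]
    rw [h6, hcb] at h5
    norm_num at h5

end Cfsg.Agent.H847.JTwoOdd
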